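import Groth.Agent.Lib.NeronFin13.Basic
import Groth.Agent.Lib.RatSing29.FiniteModel
import Groth.Agent.Lib.Seesaw26.Descent

/-!
# Fibrations from normal schemes
-/

set_option autoImplicit false
set_option linter.style.haveILetI false
set_option backward.isDefEq.respectTransparency false
universe u

open CategoryTheory CategoryTheory.Limits AlgebraicGeometry TopologicalSpace

namespace GrothLib.FibNormal5

variable {X Y : Scheme.{u}}

/-- If `O_Y = f_* O_X` with `f` proper and `X` normal, then `Y` is normal. -/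
theorem isNormalScheme_of_fibration (f : X ⟶ Y) [IsProper f] [IsLocallyNoetherian Y] [IsLocallyNoetherian X]
    [CompactSpace X] (hfib : ∀ V : Y.Opens, IsIso (f.app V)) (hX : Pi1.IsNormalScheme X) :
    Pi1.IsNormalScheme Y := by
  intro y
  haveI : IsReduced X := GrothLib.NeronFin13.isReduced_normal hX
  haveI := GrothLib.Stein.connectedSpace_fiber f y hfib
  obtain ⟨z₀⟩ : Nonempty (f.fiber y) := inferInstance
  obtain ⟨C, hC, hzC⟩ : ∃ C ∈ irreducibleComponents X, f.fiberι y z₀ ∈ C :=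
    ⟨_, irreducibleComponent_mem_irreducibleComponents _, mem_irreducibleComponent⟩
  have hCo := GrothLib.NeronFin13.isOpen_component hX C hC
  have hCc : IsClosed C := isClosed_of_mem_irreducibleComponents C hC
  have hfibC : ∀ z : f.fiber y, f.fiberι y z ∈ C := by
    have hcl : IsClopen ((f.fiberι y).base ⁻¹' C) :=
      ⟨hCc.preimage (f.fiberι y).continuous, hCo.preimage (f.fiberι y).continuous⟩
    have := hcl.eq_univ ⟨z₀, hzC⟩
    exact fun z => (this.symm ▸ Set.mem_univ z : z ∈ (f.fiberι y).base ⁻¹' C)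
  let V : Y.Opens := ⟨(f.base '' Cᶜ)ᶜ, (f.isClosedMap _ hCo.isClosed_compl).isOpen_compl⟩
  have hyV : y ∈ V := by
    rintro ⟨x, hx, hxy⟩
    obtain ⟨z, rfl⟩ := (f.range_fiberι y).ge (show x ∈ f ⁻¹' {y} from hxy)
    exact hx (hfibC z)
  have hUC : ((f ⁻¹ᵁ V : X.Opens) : Set X) ⊆ C := fun x hx => by
    by_contra h
    exact hx ⟨x, h, rfl⟩
  have hz0 : f.fiberι y z₀ ∈ f ⁻¹ᵁ V := by
    show f (f.fiberι y z₀) ∈ V
    rwa [show f (f.fiberι y z₀) = y from (f.range_fiberι y).le ⟨z₀, rfl⟩]
  let m := f ∣_ V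
  have hb : ∀ U : (V : Scheme.{u}).Opens, Function.Bijective (m.app U) := fun U => by
    haveI := hfib (V.ι ''ᵁ U)
    haveI : IsIso (m.app U) := by rw [morphismRestrict_app]; infer_instance
    exact ConcreteCategory.bijective_of_isIso (m.app U)
  have hne : ((f ⁻¹ᵁ V : X.Opens) : Set X).Nonempty := ⟨_, hz0⟩
  haveI hirr : IrreducibleSpace ↥(f ⁻¹ᵁ V : Scheme.{u}) := by
    have h1 : IsIrreducible (C ∩ ((f ⁻¹ᵁ V : X.Opens) : Set X)) :=
      ⟨by rwa [Set.inter_eq_right.2 hUC], hC.1.2.open_subset (hCo.inter (f ⁻¹ᵁ V).2) Set.inter_subset_left⟩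
    rw [Set.inter_eq_right.2 hUC] at h1
    exact Subtype.irreducibleSpace h1
  haveI : IsIntegral (f ⁻¹ᵁ V : Scheme.{u}) := isIntegral_of_irreducibleSpace_of_isReduced _
  haveI : Surjective f := ⟨fun y' => by
    obtain ⟨w⟩ : Nonempty (f.fiber y') := (GrothLib.Stein.connectedSpace_fiber f y' hfib).toNonempty
    exact ⟨_, (f.range_fiberι y').le ⟨w, rfl⟩⟩⟩
  haveI : Surjective m := MorphismProperty.of_isPullback (isPullback_morphismRestrict f V).flip ‹_›
  haveI : IrreducibleSpace ↥(V : Scheme.{u}) := by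
    refine (irreducibleSpace_def _).mpr ?_
    have h := (IrreducibleSpace.isIrreducible_univ ↥(f ⁻¹ᵁ V : Scheme.{u})).image m m.continuous.continuousOn
    rwa [Set.image_univ, m.surjective.range_eq] at h
  haveI : IsReduced (V : Scheme.{u}) := by
    haveI : ∀ U : (V : Scheme.{u}).Opens, _root_.IsReduced Γ((V : Scheme.{u}), U) := fun U => by
      haveI : _root_.IsReduced Γ((f ⁻¹ᵁ V : Scheme.{u}), m ⁻¹ᵁ U) := IsReduced.component_reduced _
      exact isReduced_of_injective (m.app U).hom (hb U).1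
    exact ⟨inferInstance⟩
  haveI : IsIntegral (V : Scheme.{u}) := isIntegral_of_irreducibleSpace_of_isReduced _
  have hW : Pi1.IsNormalScheme (f ⁻¹ᵁ V : Scheme.{u}) := fun w => by
    let e := (asIso ((f ⁻¹ᵁ V).ι.stalkMap w)).commRingCatIsoToRingEquiv
    haveI := (hX ((f ⁻¹ᵁ V).ι w)).1
    haveI := (hX ((f ⁻¹ᵁ V).ι w)).2
    exact ⟨e.toMulEquiv.symm.isDomain _, IsIntegrallyClosed.of_equiv e⟩
  have hV := GrothLib.RatSing29.isNormalScheme_of_bijective_app hW m hb ⟨y, hyV⟩
  let e := (asIso (V.ι.stalkMap ⟨y, hyV⟩)).commRingCatIsoToRingEquiv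
  haveI := hV.1
  haveI := hV.2
  exact ⟨e.toMulEquiv.isDomain _, IsIntegrallyClosed.of_equiv e.symm⟩

/-- Fibrations over a field are stable under extension of the field. -/
theorem exists_fibration_baseChange (k : Type u) [Field k] (pX : X ⟶ Spec (CommRingCat.of k))
    (pY : Y ⟶ Spec (CommRingCat.of k)) [IsProper pX] [IsProper pY] (f : X ⟶ Y) (hf : f ≫ pY = pX)
    (hfib : ∀ V : Y.Opens, IsIso (f.app V)) (K : Type u) [Field K] [Algebra k K] :
    ∃ fK : pullback pX (Spec.map (CommRingCat.ofHom (algebraMap k K))) ⟶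
        pullback pY (Spec.map (CommRingCat.ofHom (algebraMap k K))),
      fK ≫ pullback.snd pY _ = pullback.snd pX _ ∧ IsProper fK ∧
        ∀ V : Scheme.Opens (pullback pY (Spec.map (CommRingCat.ofHom (algebraMap k K)))), IsIso (fK.app V) := by
  subst hf
  set φ := Spec.map (CommRingCat.ofHom (algebraMap k K))
  haveI : Flat φ := (HasRingHomProperty.Spec_iff (P := @Flat)).mpr (RingHom.flat_algebraMap_iff.mpr inferInstance)
  haveI : IsProper f := IsProper.of_comp f pY
  refine ⟨(pullbackRightPullbackFstIso pY φ f).inv ≫ pullback.snd f (pullback.fst pY φ), ?_, inferInstance, fun V => ?_⟩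
  · rw [Category.assoc, Iso.inv_comp_eq, pullbackRightPullbackFstIso_hom_snd]
  · have hb := GrothLib.Seesaw26.bijective_app_of_flat_baseChange f
      (fun U => ConcreteCategory.bijective_of_isIso (f.app U)) (pullback.fst pY φ) V
    haveI : IsIso ((pullback.snd f (pullback.fst pY φ)).app V) := (ConcreteCategory.isIso_iff_bijective _).2 hb
    rw [Scheme.Hom.comp_app]
    infer_instance

end GrothLib.FibNormal5
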